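import Groth.Agent.Fano.K470.CurDef

/-!
# Boundaries of families of curves `a = α p + t b`, part 1 (job Fano CC3)

* `irr_hat`, `cons_mem_of_cl`, `bd_eqs`, `exists_bd`, `zero_mem_bd`.
* general lemmas: `subset_cl`, `cl_subset`, `isZOpen_compl_cl`, `irr_cl`, `irr_rat`, `cl_closed` (a closed condition
  valid on `S` is valid on `Cl S`), `eq_zero_of_ne` (polynomial functions on `k` vanishing off `0`), `comp_smul`.
-/

set_option autoImplicit false

universe u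

namespace K244.Bnd

open LefPen Groth.Agent.Lefpen.H703.ZOpen Module K714.Irr K714.Frames K470.Cur K656.Trilin K714.Surf

variable {k : Type u} [Field k]

section top

variable {V W : Type u} [AddCommGroup V] [Module k V] [AddCommGroup W] [Module k W]

theorem subset_cl (S : Set V) : S ⊆ Cl k S := fun v hv _ _ hvO => ⟨v, hv, hvO⟩

theorem cl_subset {S X : Set V} (h : S ⊆ X) (hX : IsZOpen k Xᶜ) : Cl k S ⊆ X := by
  intro v hv
  by_contra hvX
  obtain ⟨s, hs, hs'⟩ := hv _ hX hvX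
  exact hs' (h hs)

theorem isZOpen_compl_cl (S : Set V) : IsZOpen k (Cl k S)ᶜ := by
  intro v hv
  rw [Set.mem_compl_iff] at hv
  have hv' : ∃ O : Set V, IsZOpen k O ∧ v ∈ O ∧ ¬ (S ∩ O).Nonempty := by
    by_contra hcon
    apply hv
    intro O hO hvO
    by_contra hne
    exact hcon ⟨O, hO, hvO, hne⟩
  obtain ⟨O, hO, hvO, hne⟩ := hv'
  obtain ⟨f, hf, hfv, hfO⟩ := hO v hvO
  refine ⟨f, hf, hfv, fun w hw hwS => hne ?_⟩
  obtain ⟨s, hs, hs'⟩ := hwS O hO (hfO w hw)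
  exact ⟨s, hs, hs'⟩

theorem irr_cl {S : Set V} (hS : Irr k S) : Irr k (Cl k S) :=
  hS.of_dense (subset_cl S) fun _ hv O hO hvO => hv O hO hvO

/-- A closed condition valid on `S` is valid on the closure. -/
theorem cl_closed {S : Set V} {f : V → k} (hf : IsPolyFun k f) (h : ∀ s ∈ S, f s = 0) {v : V} (hv : v ∈ Cl k S) :
    f v = 0 := by
  by_contra hne
  obtain ⟨s, hs, hs'⟩ := hv _ (isZOpen_basic hf) hne
  exact hs' (h s hs)

/-- image of an irreducible set under a map with denominators -/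
theorem irr_rat {S : Set V} (hS : Irr k S) {δ : V → k} (hδ : IsPolyFun k δ) {Q P : V → W} (hQ : IsPolyMap k Q)
    (hP : IsPolyMap k P) (h : ∃ s ∈ S, δ s ≠ 0) :
    Irr k ((fun v => Q v + (δ v)⁻¹ • P v) '' (S ∩ {v | δ v ≠ 0})) := by
  obtain ⟨s, hs, hs0⟩ := h
  refine ⟨⟨_, s, ⟨hs, hs0⟩, rfl⟩, ?_⟩
  rintro O O' hO hO' ⟨_, ⟨v, ⟨hv, hv0⟩, rfl⟩, hvO⟩ ⟨_, ⟨w, ⟨hw, hw0⟩, rfl⟩, hwO⟩
  obtain ⟨x, hx, ⟨hx0, hx1⟩, -, hx2⟩ := hS.2 _ _ (isZOpen_rat hO hδ hQ hP) (isZOpen_rat hO' hδ hQ hP)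
    ⟨v, hv, hv0, hvO⟩ ⟨w, hw, hw0, hwO⟩
  exact ⟨_, ⟨x, ⟨hx, hx0⟩, rfl⟩, hx1, hx2⟩

/-- The origin is a limit of nonzero scalars. -/
theorem exists_ne_mem [Infinite k] {O : Set k} (hO : IsZOpen k O) (h : (0 : k) ∈ O) : ∃ c ∈ O, c ≠ 0 := by
  obtain ⟨x, -, hx, hx0⟩ := (irr_univ (k := k) (V := k)).2 O {c | c ≠ 0} hO (isZOpen_basic (isPolyMap_iff_isPolyFun.1 isPolyMap_id))
    ⟨0, trivial, h⟩ ⟨1, trivial, one_ne_zero⟩
  exact ⟨x, hx, hx0⟩

/-- Polynomial functions on the line vanishing off the origin vanish. -/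
theorem eq_zero_of_ne [Infinite k] {f : k → k} (hf : IsPolyFun k f) (h : ∀ s, s ≠ 0 → f s = 0) : f 0 = 0 := by
  by_contra hne
  obtain ⟨c, hc, hc0⟩ := exists_ne_mem (isZOpen_basic hf) hne
  exact hc (h c hc0)

end top

section curves

variable {T : (Fin 5 → k) →ₗ[k] (Fin 5 → k) →ₗ[k] (Fin 5 → k) →ₗ[k] k}

/-- `(v, b) ↦ v + t b` as a linear map -/
def consL (k : Type u) [Field k] (e : ℕ) : ((Fin 5 → k) × A k e) →ₗ[k] A k (e + 1) where
  toFun q := Fin.cons q.1 q.2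
  map_add' _ _ := by
    funext i
    refine Fin.cases ?_ (fun i => ?_) i <;> rfl
  map_smul' _ _ := by
    funext i
    refine Fin.cases ?_ (fun i => ?_) i <;> rfl

theorem consL_apply {e : ℕ} (v : Fin 5 → k) (b : A k e) : consL k e (v, b) = Fin.cons v b := rfl

/-- the tail of a curve as a linear map -/
def tailL (k : Type u) [Field k] (e : ℕ) : A k (e + 1) →ₗ[k] A k e where
  toFun a := Fin.tail a
  map_add' _ _ := rfl
  map_smul' _ _ := rfl

theorem pm_cons {e : ℕ} : IsPolyMap k (fun q : k × (Fin 5 → k) × A k e =>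
    (Fin.cons (q.1 • q.2.1) q.2.2 : A k (e + 1))) := by
  have h1 : IsPolyMap k (fun q : k × (Fin 5 → k) × A k e => (q.1 • q.2.1, q.2.2)) :=
    pm_prodMk (pm_smul (isPolyMap_iff_isPolyFun.1 isPolyMap_fst) (pm_comp isPolyMap_fst isPolyMap_snd))
      (pm_comp isPolyMap_snd isPolyMap_snd)
  exact pm_comp (isPolyMap_linear (consL k e)) h1

theorem irr_hat [Infinite k] {e : ℕ} {W : Set (A k (e + 1))} (hW : Irr k W) : Irr k (hat W) := by
  have h1 : Irr k {p : A k (e + 1) × k | p.1 ∈ W} := hW.prod_univ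
  have hδ : IsPolyFun k (fun p : A k (e + 1) × k => p.2) := isPolyMap_iff_isPolyFun.1 isPolyMap_snd
  have hQ : IsPolyMap k (fun p : A k (e + 1) × k => ((p.2, (0 : Fin 5 → k), tailL k e p.1) :
      k × (Fin 5 → k) × A k e)) :=
    pm_prodMk isPolyMap_snd (pm_prodMk (isPolyMap_const _)
      (pm_comp (isPolyMap_linear (tailL k e)) isPolyMap_fst))
  have hP : IsPolyMap k (fun p : A k (e + 1) × k => ((0, p.1 0, 0) : k × (Fin 5 → k) × A k e)) :=
    pm_prodMk (isPolyMap_const _) (pm_prodMk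
      (pm_comp (isPolyMap_linear (LinearMap.proj (R := k) (φ := fun _ : Fin (e + 1 + 1) => Fin 5 → k) 0)) isPolyMap_fst)
      (isPolyMap_const _))
  obtain ⟨a₀, ha₀⟩ := hW.1
  have h2 := irr_rat h1 hδ hQ hP ⟨(a₀, 1), ha₀, one_ne_zero⟩
  have h3 : (fun p : A k (e + 1) × k => ((p.2, (0 : Fin 5 → k), tailL k e p.1) :
      k × (Fin 5 → k) × A k e) + (p.2)⁻¹ • ((0, p.1 0, 0) : k × (Fin 5 → k) × A k e)) ''
      ({p : A k (e + 1) × k | p.1 ∈ W} ∩ {p | p.2 ≠ 0}) = hat W := by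
    ext q
    constructor
    · rintro ⟨⟨a, c⟩, ⟨ha, hc⟩, rfl⟩
      have hc' : c ≠ 0 := hc
      refine ⟨by simpa using hc', ?_⟩
      have h4 : (Fin.cons ((c + c⁻¹ • (0 : k)) • ((0 : Fin 5 → k) + c⁻¹ • a 0)) (tailL k e a + c⁻¹ • 0) :
          A k (e + 1)) = a := by
        rw [smul_zero, add_zero, zero_add, smul_smul, mul_inv_cancel₀ hc', one_smul, smul_zero, add_zero]
        exact Fin.cons_self_tail a
      exact h4.symm ▸ ha
    · rintro ⟨hq0, hq⟩
      refine ⟨(Fin.cons (q.1 • q.2.1) q.2.2, q.1), ⟨hq, hq0⟩, ?_⟩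
      obtain ⟨c, p, b⟩ := q
      have hc' : c ≠ 0 := hq0
      refine Prod.ext ?_ (Prod.ext ?_ ?_)
      · change c + c⁻¹ • (0 : k) = c
        rw [smul_zero, add_zero]
      · change (0 : Fin 5 → k) + c⁻¹ • (c • p) = p
        rw [zero_add, smul_smul, inv_mul_cancel₀ hc', one_smul]
      · change b + c⁻¹ • (0 : A k e) = b
        rw [smul_zero, add_zero]
  rw [← h3]
  exact h2

theorem cons_mem_of_cl {e : ℕ} {W : Set (A k (e + 1))} (hc : IsZOpen k Wᶜ) {q : k × (Fin 5 → k) × A k e}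
    (hq : q ∈ Cl k (hat W)) : (Fin.cons (q.1 • q.2.1) q.2.2 : A k (e + 1)) ∈ W := by
  by_contra hcon
  obtain ⟨s, hs, hs'⟩ := hq _ (zo_preimage hc pm_cons) hcon
  exact hs' hs.2

/-- Scaling preserves components. -/
theorem comp_smul [IsAlgClosed k] {e : ℕ} {W : Set (A k e)} (hW : IsComp k (Z T e) W) (c : k) {a : A k e}
    (ha : a ∈ W) : c • a ∈ W := by
  obtain ⟨h1, h2, h3⟩ := hW
  have h4 : Irr k {p : A k e × k | p.1 ∈ W} := h2.prod_univ
  have h5 := h4.image (φ := fun p : A k e × k => p.2 • p.1)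
    (pm_smul (isPolyMap_iff_isPolyFun.1 isPolyMap_snd) isPolyMap_fst)
  have h6 := h3 _ ?_ h5 ?_
  · rw [← h6]
    exact ⟨(a, c), ha, rfl⟩
  · rintro _ ⟨⟨a, c⟩, ha, rfl⟩ s
    have h7 : ev (c • a) s = c • ev a s := by
      rw [ev, ev, Finset.smul_sum]
      refine Finset.sum_congr rfl fun i _ => ?_
      change s ^ (i : ℕ) • (c • a i) = _
      exact smul_comm _ _ _
    have h8 : T (ev a s) (ev a s) (ev a s) = 0 := h1 ha s
    change T (ev (c • a) s) (ev (c • a) s) (ev (c • a) s) = 0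
    rw [h7]
    simp only [map_smul, LinearMap.smul_apply, smul_eq_mul, h8, mul_zero]
  · intro a ha
    exact ⟨(a, 1), ha, one_smul _ _⟩

theorem zero_mem_bd [IsAlgClosed k] {e : ℕ} {W : Set (A k (e + 1))} (hW : IsComp k (Z T (e + 1)) W)
    {a : A k (e + 1)} (ha : a ∈ W) : (a 0, (0 : A k e)) ∈ bd W := by
  intro O hO hmem
  have h1 : IsPolyMap k (fun c : k => ((c, a 0, c • tailL k e a) : k × (Fin 5 → k) × A k e)) :=
    pm_prodMk isPolyMap_id (pm_prodMk (isPolyMap_const _)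
      (pm_smul (isPolyMap_iff_isPolyFun.1 isPolyMap_id) (isPolyMap_const _)))
  obtain ⟨c, hc, hc0⟩ := exists_ne_mem (zo_preimage hO h1) (by
    change ((0 : k), a 0, (0 : k) • tailL k e a) ∈ O
    rw [zero_smul]
    exact hmem)
  refine ⟨_, ⟨hc0, ?_⟩, hc⟩
  have h2 : (Fin.cons (c • a 0) (c • tailL k e a) : A k (e + 1)) = c • a := by
    funext i
    refine Fin.cases ?_ (fun i => ?_) i <;> rfl
  exact h2.symm ▸ comp_smul hW c ha

/-- `ev · s` as a linear map -/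
def evL (k : Type u) [Field k] (e : ℕ) (s : k) : A k e →ₗ[k] (Fin 5 → k) :=
  ∑ i : Fin (e + 1), s ^ (i : ℕ) • LinearMap.proj (R := k) (φ := fun _ : Fin (e + 1) => Fin 5 → k) i

theorem evL_apply {e : ℕ} (s : k) (a : A k e) : evL k e s a = ev a s := by
  rw [evL, LinearMap.sum_apply]
  rfl

/-- the second difference quotient `(a(s) - a(0)) / s` -/
def dv {e : ℕ} (a : A k e) (s : k) : Fin 5 → k := ∑ i : Fin e, s ^ (i : ℕ) • a i.succ

/-- `dv · s` as a linear map -/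
def dvL (k : Type u) [Field k] (e : ℕ) (s : k) : A k e →ₗ[k] (Fin 5 → k) :=
  ∑ i : Fin e, s ^ (i : ℕ) • LinearMap.proj (R := k) (φ := fun _ : Fin (e + 1) => Fin 5 → k) i.succ

theorem dvL_apply {e : ℕ} (s : k) (a : A k e) : dvL k e s a = dv a s := by
  rw [dvL, LinearMap.sum_apply]
  rfl

theorem ev_eq {e : ℕ} (a : A k e) (s : k) : ev a s = a 0 + s • dv a s := by
  rw [ev, Fin.sum_univ_succ, dv, Finset.smul_sum]
  congr 1
  · rw [Fin.val_zero, pow_zero, one_smul]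
  · refine Finset.sum_congr rfl fun i _ => ?_
    rw [Fin.val_succ, pow_succ', mul_smul]

theorem ev_cons {e : ℕ} (v : Fin 5 → k) (b : A k e) (s : k) :
    ev (Fin.cons v b : A k (e + 1)) s = v + s • ev b s := by
  rw [ev, Fin.sum_univ_succ, ev, Finset.smul_sum]
  congr 1
  · rw [Fin.val_zero, pow_zero, one_smul]
    rfl
  · refine Finset.sum_congr rfl fun i _ => ?_
    rw [Fin.val_succ, pow_succ', mul_smul]
    rfl

theorem pm_ev {e : ℕ} (a : A k e) : IsPolyMap k (fun s : k => ev a s) := by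
  intro l
  have h1 : (fun s : k => l (ev a s)) = fun s => ∑ i : Fin (e + 1), s ^ (i : ℕ) * l (a i) := by
    funext s
    rw [ev, map_sum]
    exact Finset.sum_congr rfl fun i _ => by rw [map_smul, smul_eq_mul]
  rw [h1]
  exact pf_sum _ fun i _ => pf_mul (pf_pow (isPolyMap_iff_isPolyFun.1 isPolyMap_id) _) (isPolyFun_const _)

theorem pm_dv {e : ℕ} (a : A k e) : IsPolyMap k (fun s : k => dv a s) := by
  intro l
  have h1 : (fun s : k => l (dv a s)) = fun s => ∑ i : Fin e, s ^ (i : ℕ) * l (a i.succ) := by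
    funext s
    rw [dv, map_sum]
    exact Finset.sum_congr rfl fun i _ => by rw [map_smul, smul_eq_mul]
  rw [h1]
  exact pf_sum _ fun i _ => pf_mul (pf_pow (isPolyMap_iff_isPolyFun.1 isPolyMap_id) _) (isPolyFun_const _)

/-- expansion of the cubic form -/
theorem T_add (hT : IsSym3 T) (u v : Fin 5 → k) : T (u + v) (u + v) (u + v) =
    T u u u + 3 * T u u v + 3 * T u v v + T v v v := by
  have h1 : T u v u = T u u v := hT.s23 _ _ _
  have h2 : T v u u = T u u v := by rw [hT.s12, h1]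
  have h3 : T v u v = T u v v := hT.s12 _ _ _
  have h4 : T v v u = T u v v := by rw [hT.s23, h3]
  simp only [map_add, LinearMap.add_apply, h1, h2, h3, h4]
  ring

/-- the equations of a curve `α p + s b(s)` on the cubic, `α ≠ 0` -/
theorem hat_eqs [Infinite k] [CharZero k] (hT : IsSym3 T) {e : ℕ} {W : Set (A k (e + 1))} (hW : W ⊆ Z T (e + 1))
    {q : k × (Fin 5 → k) × A k e} (hq : q ∈ hat W) :
    T q.2.1 q.2.1 q.2.1 = 0 ∧ T q.2.1 q.2.1 (q.2.2 0) = 0 ∧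
      q.1 * T q.2.1 q.2.1 (dv q.2.2 0) + T q.2.1 (q.2.2 0) (q.2.2 0) = 0 ∧
      ∀ s : k, q.1 ^ 3 * T q.2.1 q.2.1 q.2.1 + 3 * (q.1 ^ 2 * s * T q.2.1 q.2.1 (ev q.2.2 s)) +
        3 * (q.1 * s ^ 2 * T q.2.1 (ev q.2.2 s) (ev q.2.2 s)) +
        s ^ 3 * T (ev q.2.2 s) (ev q.2.2 s) (ev q.2.2 s) = 0 := by
  obtain ⟨α, p, b⟩ := q
  obtain ⟨h0, h1⟩ := hq
  have h0' : α ≠ 0 := h0
  have h2 : ∀ s : k, α ^ 3 * T p p p + 3 * (α ^ 2 * s * T p p (ev b s)) +
        3 * (α * s ^ 2 * T p (ev b s) (ev b s)) + s ^ 3 * T (ev b s) (ev b s) (ev b s) = 0 := by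
    intro s
    have h3 : T (ev (Fin.cons (α • p) b : A k (e + 1)) s) (ev (Fin.cons (α • p) b : A k (e + 1)) s)
      (ev (Fin.cons (α • p) b : A k (e + 1)) s) = 0 := hW h1 s
    rw [ev_cons, T_add hT] at h3
    simp only [map_smul, LinearMap.smul_apply, smul_eq_mul] at h3
    rw [← h3]
    ring
  have e0 : ev b 0 = b 0 := by rw [ev_eq, zero_smul, add_zero]
  have h3 : T p p p = 0 := by
    have h4 := h2 0
    have h5 : α ^ 3 * T p p p = 0 := by rw [← h4]; ring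
    exact (mul_eq_zero.1 h5).resolve_left (pow_ne_zero _ h0')
  have pp : IsPolyMap k (fun _ : k => p) := isPolyMap_const p
  have ps : IsPolyFun k (fun s : k => s) := isPolyMap_iff_isPolyFun.1 isPolyMap_id
  have pe := pm_ev b
  have pd := pm_dv b
  have h4 : T p p (b 0) = 0 := by
    have h5 := eq_zero_of_ne (f := fun s : k => 3 * α ^ 2 * T p p (ev b s) +
        3 * α * (s * T p (ev b s) (ev b s)) + s ^ 2 * T (ev b s) (ev b s) (ev b s))
      (pf_add (pf_add (pf_const_mul _ (K714.TypeConst.pf_tri T pp pp pe))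
        (pf_const_mul _ (pf_mul ps (K714.TypeConst.pf_tri T pp pe pe))))
        (pf_mul (pf_pow ps 2) (K714.TypeConst.pf_tri T pe pe pe))) (by
      intro s hs
      have h6 := h2 s
      rw [h3] at h6
      refine (mul_eq_zero.1 (?_ : s * _ = 0)).resolve_left hs
      rw [← h6]
      ring)
    simp only [e0] at h5
    have h7 : 3 * α ^ 2 * T p p (b 0) = 0 := by linear_combination h5
    exact (mul_eq_zero.1 h7).resolve_left (mul_ne_zero three_ne_zero (pow_ne_zero _ h0'))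
  refine ⟨h3, h4, ?_, h2⟩
  have h5 := eq_zero_of_ne (f := fun s : k => 3 * α ^ 2 * T p p (dv b s) +
      3 * α * T p (ev b s) (ev b s) + s * T (ev b s) (ev b s) (ev b s))
    (pf_add (pf_add (pf_const_mul _ (K714.TypeConst.pf_tri T pp pp pd))
      (pf_const_mul _ (K714.TypeConst.pf_tri T pp pe pe)))
      (pf_mul ps (K714.TypeConst.pf_tri T pe pe pe))) (by
    intro s hs
    have h6 := h2 s
    have h7 : T p p (ev b s) = s * T p p (dv b s) := by
      rw [ev_eq, map_add, map_smul, h4, zero_add, smul_eq_mul]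
    refine (mul_eq_zero.1 (?_ : s ^ 2 * _ = 0)).resolve_left (pow_ne_zero 2 hs)
    rw [← h6, h3, h7]
    ring)
  simp only [e0] at h5
  have h7 : 3 * α * (α * T p p (dv b 0) + T p (b 0) (b 0)) = 0 := by linear_combination h5
  exact (mul_eq_zero.1 h7).resolve_left (mul_ne_zero three_ne_zero h0')

theorem bd_eqs [Infinite k] [CharZero k] (hT : IsSym3 T) {e : ℕ} {W : Set (A k (e + 1))} (hW : W ⊆ Z T (e + 1))
    {q : (Fin 5 → k) × A k e} (hq : q ∈ bd W) : q.2 ∈ Z T e ∧ q.1 ∈ Cone T (q.2 0) := by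
  have hq' : ((0 : k), q) ∈ Cl k (hat W) := hq
  have pα : IsPolyFun k (fun q : k × (Fin 5 → k) × A k e => q.1) := isPolyMap_iff_isPolyFun.1 isPolyMap_fst
  have pp : IsPolyMap k (fun q : k × (Fin 5 → k) × A k e => q.2.1) := pm_comp isPolyMap_fst isPolyMap_snd
  have pb : IsPolyMap k (fun q : k × (Fin 5 → k) × A k e => q.2.2) := pm_comp isPolyMap_snd isPolyMap_snd
  have pb0 : IsPolyMap k (fun q : k × (Fin 5 → k) × A k e => q.2.2 0) :=
    pm_comp (isPolyMap_linear (LinearMap.proj (R := k) (φ := fun _ : Fin (e + 1) => Fin 5 → k) 0)) pb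
  have pe : ∀ s : k, IsPolyMap k (fun q : k × (Fin 5 → k) × A k e => ev q.2.2 s) := by
    intro s
    have h1 := pm_comp (isPolyMap_linear (evL k e s)) pb
    simpa only [evL_apply] using h1
  have pd : IsPolyMap k (fun q : k × (Fin 5 → k) × A k e => dv q.2.2 0) := by
    have h1 := pm_comp (isPolyMap_linear (dvL k e 0)) pb
    simpa only [dvL_apply] using h1
  have tri := fun (f g h : k × (Fin 5 → k) × A k e → Fin 5 → k) (hf : IsPolyMap k f) (hg : IsPolyMap k g)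
    (hh : IsPolyMap k h) => K714.TypeConst.pf_tri T hf hg hh
  have h1 := cl_closed (tri _ _ _ pp pp pp) (fun s hs => (hat_eqs hT hW hs).1) hq'
  have h2 := cl_closed (tri _ _ _ pp pp pb0) (fun s hs => (hat_eqs hT hW hs).2.1) hq'
  have h3 := cl_closed (pf_add (pf_mul pα (tri _ _ _ pp pp pd)) (tri _ _ _ pp pb0 pb0))
    (fun s hs => (hat_eqs hT hW hs).2.2.1) hq'
  have h4 : ∀ s : k, s ^ 3 * T (ev q.2 s) (ev q.2 s) (ev q.2 s) = 0 := by
    intro s
    have h5 := cl_closed (pf_add (pf_add (pf_add (pf_mul (pf_pow pα 3) (tri _ _ _ pp pp pp))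
      (pf_const_mul 3 (pf_mul (pf_mul (pf_pow pα 2) (isPolyFun_const s)) (tri _ _ _ pp pp (pe s)))))
      (pf_const_mul 3 (pf_mul (pf_mul pα (isPolyFun_const (s ^ 2))) (tri _ _ _ pp (pe s) (pe s)))))
      (pf_mul (isPolyFun_const (s ^ 3)) (tri _ _ _ (pe s) (pe s) (pe s))))
      (fun x hx => (hat_eqs hT hW hx).2.2.2 s) hq'
    rw [← h5]
    ring
  refine ⟨fun s => ?_, h1, h2, ?_⟩
  · by_cases hs : s = 0
    · subst hs
      exact eq_zero_of_ne (f := fun s : k => T (ev q.2 s) (ev q.2 s) (ev q.2 s))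
        (K714.TypeConst.pf_tri T (pm_ev _) (pm_ev _) (pm_ev _))
        fun s hs => (mul_eq_zero.1 (h4 s)).resolve_left (pow_ne_zero 3 hs)
    · exact (mul_eq_zero.1 (h4 s)).resolve_left (pow_ne_zero 3 hs)
  · have h5 : (0 : k) * T q.1 q.1 (dv q.2 0) + T q.1 (q.2 0) (q.2 0) = 0 := h3
    rw [zero_mul, zero_add] at h5
    exact h5

theorem dimGE_hat [Infinite k] {e : ℕ} {W : Set (A k (e + 1))} {d : ℕ} (hd : DimGE k W d) :
    DimGE k (hat W) (d + 1) := by
  obtain ⟨φ, hφ, h⟩ := hd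
  refine ⟨fun q => Fin.cons q.1 (φ (Fin.cons (q.1 • q.2.1) q.2.2)), ?_, ?_⟩
  · rw [isPolyMap_pi]
    intro i
    refine Fin.cases ?_ (fun i => ?_) i
    · exact isPolyMap_iff_isPolyFun.1 isPolyMap_fst
    · exact isPolyMap_pi.1 (pm_comp hφ pm_cons) i
  · rintro O hO ⟨x, hx⟩
    obtain ⟨y, -, hy, hy0⟩ := (irr_univ (k := k) (V := Fin (d + 1) → k)).2 O {y | y 0 ≠ 0} hO
      (isZOpen_basic (isPolyMap_pi.1 isPolyMap_id 0)) ⟨x, trivial, hx⟩ ⟨fun _ => 1, trivial, one_ne_zero⟩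
    have hy0' : y 0 ≠ 0 := hy0
    have h1 : IsPolyMap k (fun z : Fin d → k => (Fin.cons (y 0) z : Fin (d + 1) → k)) := by
      rw [isPolyMap_pi]
      intro i
      refine Fin.cases ?_ (fun i => ?_) i
      · exact isPolyFun_const _
      · exact isPolyMap_pi.1 isPolyMap_id i
    obtain ⟨a, ha, ha'⟩ := h _ (zo_preimage hO h1) ⟨Fin.tail y, by
      change (Fin.cons (y 0) (Fin.tail y) : Fin (d + 1) → k) ∈ O
      rw [Fin.cons_self_tail]
      exact hy⟩
    have h2 : (Fin.cons (y 0 • ((y 0)⁻¹ • a 0)) (Fin.tail a) : A k (e + 1)) = a := by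
      rw [smul_smul, mul_inv_cancel₀ hy0', one_smul, Fin.cons_self_tail]
    refine ⟨(y 0, (y 0)⁻¹ • a 0, Fin.tail a), ⟨hy0', h2.symm ▸ ha⟩, ?_⟩
    change (Fin.cons (y 0) (φ (Fin.cons (y 0 • ((y 0)⁻¹ • a 0)) (Fin.tail a))) : Fin (d + 1) → k) ∈ O
    rw [h2]
    exact ha'

/-- the statement of `pit_one` (job Fano CT3) -/
def PitOne (k : Type u) [Field k] : Prop :=
  ∀ {V : Type u} [AddCommGroup V] [Module k V] [FiniteDimensional k V] {S : Set V}, Irr k S → IsZOpen k Sᶜ →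
    ∀ {g : V → k}, IsPolyFun k g → ∀ {v : V}, v ∈ S → g v = 0 → ∀ {d : ℕ}, DimGE k S (d + 1) →
    ∃ C : Set V, C ⊆ S ∩ {v | g v = 0} ∧ Irr k C ∧ IsZOpen k Cᶜ ∧ v ∈ C ∧ DimGE k C d

/-- boundaries have codimension one -/
theorem exists_bd [IsAlgClosed k] (hpit : PitOne k) {e : ℕ} {W : Set (A k (e + 1))} (hW : Irr k W) {d : ℕ}
    (hd : DimGE k W d) {q : (Fin 5 → k) × A k e} (hq : q ∈ bd W) :
    ∃ G : Set ((Fin 5 → k) × A k e), G ⊆ bd W ∧ Irr k G ∧ IsZOpen k Gᶜ ∧ q ∈ G ∧ DimGE k G d := by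
  have hinf : Infinite k := IsAlgClosed.instInfinite
  have h1 : Irr k (Cl k (hat W)) := irr_cl (irr_hat hW)
  have h2 : DimGE k (Cl k (hat W)) (d + 1) := by
    obtain ⟨φ, hφ, h⟩ := dimGE_hat hd
    refine ⟨φ, hφ, fun O hO hne => ?_⟩
    obtain ⟨s, hs, hs'⟩ := h O hO hne
    exact ⟨s, subset_cl _ hs, hs'⟩
  have pα : IsPolyFun k (fun q : k × (Fin 5 → k) × A k e => q.1) := isPolyMap_iff_isPolyFun.1 isPolyMap_fst
  obtain ⟨C, hC1, hC2, hC3, hC4, φ, hφ, hC5⟩ := hpit h1 (isZOpen_compl_cl _) pα (v := ((0 : k), q)) hq rfl h2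
  have hi : IsPolyMap k (fun q : (Fin 5 → k) × A k e => ((0 : k), q)) :=
    pm_prodMk (isPolyMap_const _) isPolyMap_id
  have h0 : ∀ c ∈ C, ((0 : k), c.2) = c := fun c hc => Prod.ext (hC1 hc).2.symm rfl
  refine ⟨{q | ((0 : k), q) ∈ C}, fun q hq => (hC1 hq).1, ?_, zo_preimage hC3 hi, hC4,
    fun q => φ ((0 : k), q), pm_comp hφ hi, fun O hO hne => ?_⟩
  · have h3 : {q | ((0 : k), q) ∈ C} = Prod.snd '' C := by
      ext q
      constructor
      · exact fun hq => ⟨_, hq, rfl⟩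
      · rintro ⟨c, hc, rfl⟩
        exact (h0 c hc).symm ▸ hc
    rw [h3]
    exact hC2.image isPolyMap_snd
  · obtain ⟨c, hc, hc'⟩ := hC5 O hO hne
    refine ⟨c.2, (h0 c hc).symm ▸ hc, ?_⟩
    change φ ((0 : k), c.2) ∈ O
    rw [h0 c hc]
    exact hc'

end curves

end K244.Bnd
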